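import Cfsg.Agent.Lib.G2Six.Tables
import Cfsg.Agent.Lib.Tech.U3L27

/-!
`G₂(2)` on the 63 polar triangles of the unitary plane over nine elements: data and finite checks.
A projective point is coded by `81 a + 9 b + c`.
-/

set_option autoImplicit false
set_option maxRecDepth 20000

namespace Cfsg.Agent.G2Two

open U3L27 (eadd emul econj mul3 trans3 conj3 one3 det3)

/-- The triangle of a vector. -/
def triL : List (List ℕ) :=
  [[], [3, 27, 243], [3, 252, 261], [3, 270, 297], [27, 244, 245], [27, 246, 249], [30, 33, 243], [28,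
    29, 243], [269, 313, 317], [266, 283, 290], [265, 311, 316], [268, 287, 289], [260, 281, 295],
    [257, 308, 319], [256, 280, 293], [259, 307, 323], [244, 281, 317], [245, 280, 316], [246, 294,
    312], [249, 291, 309], [244, 290, 308], [245, 289, 307], [249, 282, 318], [246, 285, 321], [292,
    302, 317], [286, 305, 308], [284, 301, 307], [296, 304, 316], [275, 281, 310], [278, 290, 322],
    [274, 289, 320], [277, 280, 314], [252, 265, 269], [256, 260, 261], [252, 266, 268], [257, 259,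
    261], [270, 302, 304], [275, 277, 297], [274, 278, 297], [270, 301, 305], [269, 284, 294], [268,
    310, 321], [265, 286, 291], [266, 314, 318], [259, 285, 292], [260, 312, 320], [257, 282, 296],
    [256, 309, 322], [33, 293, 313], [30, 295, 311], [28, 284, 322], [29, 286, 320], [29, 292, 314],
    [28, 296, 310], [33, 283, 323], [30, 287, 319], [274, 282, 313], [275, 291, 323], [277, 294,
    319], [278, 285, 311], [287, 302, 309], [295, 301, 318], [293, 305, 321], [283, 304, 312]]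

/-- The points. -/
def allP : List ℕ :=
  [3, 27, 28, 29, 30, 33, 243, 244, 245, 246, 249, 252, 256, 257, 259, 260, 261, 265, 266, 268, 269,
    270, 274, 275, 277, 278, 280, 281, 282, 283, 284, 285, 286, 287, 289, 290, 291, 292, 293, 294,
    295, 296, 297, 301, 302, 304, 305, 307, 308, 309, 310, 311, 312, 313, 314, 316, 317, 318, 319,
    320, 321, 322, 323]

/-- The field automorphism on triangles. -/
def ttL : List ℕ :=
  [0, 1, 2, 3, 4, 5, 6, 7, 15, 14, 13, 12, 11, 10, 9, 8, 21, 20, 23, 22, 17, 16, 19, 18, 26, 27, 24,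
    25, 30, 31, 28, 29, 35, 34, 33, 32, 39, 38, 37, 36, 44, 45, 46, 47, 40, 41, 42, 43, 54, 55, 52,
    53, 50, 51, 48, 49, 57, 56, 59, 58, 61, 60, 63, 62]

/-- The root elements on vectors. -/
def gnL : List (List ℕ) :=
  [[0, 17, 10, 27, 4, 21, 14, 31, 8, 25, 2, 19, 12, 29, 6, 23, 16, 1, 26, 11, 20, 5, 30, 15, 24, 9,
    18, 3, 28, 13, 22, 7, 32, 49, 42, 59, 36, 53, 46, 63, 40, 57, 34, 51, 44, 61, 38, 55, 48, 33,
    58, 43, 52, 37, 62, 47, 56, 41, 50, 35, 60, 45, 54, 39], [0, 33, 2, 35, 12, 45, 14, 47, 8, 41,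
    10, 43, 4, 37, 6, 39, 16, 49, 18, 51, 28, 61, 30, 63, 24, 57, 26, 59, 20, 53, 22, 55, 32, 1, 34,
    3, 44, 13, 46, 15, 40, 9, 42, 11, 36, 5, 38, 7, 48, 17, 50, 19, 60, 29, 62, 31, 56, 25, 58, 27,
    52, 21, 54, 23], [0, 9, 34, 43, 20, 29, 54, 63, 8, 1, 42, 35, 28, 21, 62, 55, 16, 25, 50, 59, 4,
    13, 38, 47, 24, 17, 58, 51, 12, 5, 46, 39, 32, 41, 2, 11, 52, 61, 22, 31, 40, 33, 10, 3, 60, 53,
    30, 23, 48, 57, 18, 27, 36, 45, 6, 15, 56, 49, 26, 19, 44, 37, 14, 7], [0, 5, 18, 23, 4, 1, 22,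
    19, 8, 13, 26, 31, 12, 9, 30, 27, 16, 21, 2, 7, 20, 17, 6, 3, 24, 29, 10, 15, 28, 25, 14, 11,
    40, 45, 58, 63, 44, 41, 62, 59, 32, 37, 50, 55, 36, 33, 54, 51, 56, 61, 42, 47, 60, 57, 46, 43,
    48, 53, 34, 39, 52, 49, 38, 35], [0, 3, 2, 1, 36, 39, 38, 37, 8, 11, 10, 9, 44, 47, 46, 45, 24,
    27, 26, 25, 60, 63, 62, 61, 16, 19, 18, 17, 52, 55, 54, 53, 32, 35, 34, 33, 4, 7, 6, 5, 40, 43,
    42, 41, 12, 15, 14, 13, 56, 59, 58, 57, 28, 31, 30, 29, 48, 51, 50, 49, 20, 23, 22, 21], [0, 1,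
    6, 7, 4, 5, 2, 3, 8, 9, 14, 15, 12, 13, 10, 11, 16, 17, 22, 23, 20, 21, 18, 19, 24, 25, 30, 31,
    28, 29, 26, 27, 48, 49, 54, 55, 52, 53, 50, 51, 56, 57, 62, 63, 60, 61, 58, 59, 32, 33, 38, 39,
    36, 37, 34, 35, 40, 41, 46, 47, 44, 45, 42, 43], [0, 1, 2, 3, 6, 7, 4, 5, 8, 9, 10, 11, 14, 15,
    12, 13, 48, 49, 50, 51, 54, 55, 52, 53, 56, 57, 58, 59, 62, 63, 60, 61, 32, 33, 34, 35, 38, 39,
    36, 37, 40, 41, 42, 43, 46, 47, 44, 45, 16, 17, 18, 19, 22, 23, 20, 21, 24, 25, 26, 27, 30, 31,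
    28, 29], [0, 1, 3, 2, 4, 5, 7, 6, 24, 25, 27, 26, 28, 29, 31, 30, 16, 17, 19, 18, 20, 21, 23,
    22, 8, 9, 11, 10, 12, 13, 15, 14, 36, 37, 39, 38, 32, 33, 35, 34, 60, 61, 63, 62, 56, 57, 59,
    58, 52, 53, 55, 54, 48, 49, 51, 50, 44, 45, 47, 46, 40, 41, 43, 42], [0, 1, 2, 3, 5, 4, 7, 6,
    40, 41, 42, 43, 45, 44, 47, 46, 18, 19, 16, 17, 23, 22, 21, 20, 58, 59, 56, 57, 63, 62, 61, 60,
    32, 33, 34, 35, 37, 36, 39, 38, 8, 9, 10, 11, 13, 12, 15, 14, 50, 51, 48, 49, 55, 54, 53, 52,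
    26, 27, 24, 25, 31, 30, 29, 28], [0, 1, 2, 3, 4, 5, 6, 7, 9, 8, 11, 10, 13, 12, 15, 14, 20, 21,
    22, 23, 16, 17, 18, 19, 29, 28, 31, 30, 25, 24, 27, 26, 34, 35, 32, 33, 38, 39, 36, 37, 43, 42,
    41, 40, 47, 46, 45, 44, 54, 55, 52, 53, 50, 51, 48, 49, 63, 62, 61, 60, 59, 58, 57, 56], [0, 1,
    2, 3, 4, 5, 6, 7, 12, 13, 14, 15, 8, 9, 10, 11, 16, 17, 18, 19, 20, 21, 22, 23, 28, 29, 30, 31,
    24, 25, 26, 27, 33, 32, 35, 34, 37, 36, 39, 38, 45, 44, 47, 46, 41, 40, 43, 42, 49, 48, 51, 50,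
    53, 52, 55, 54, 61, 60, 63, 62, 57, 56, 59, 58], [0, 1, 2, 3, 4, 5, 6, 7, 10, 11, 8, 9, 14, 15,
    12, 13, 17, 16, 19, 18, 21, 20, 23, 22, 27, 26, 25, 24, 31, 30, 29, 28, 32, 33, 34, 35, 36, 37,
    38, 39, 42, 43, 40, 41, 46, 47, 44, 45, 49, 48, 51, 50, 53, 52, 55, 54, 59, 58, 57, 56, 63, 62,
    61, 60]]

/-- Whether the field automorphism occurs. -/
def cjL : List Bool :=
  [false, false, true, true, true, false, false, true, true, true, false, false]

/-- The matrices. -/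
def amL : List (List ℕ) :=
  [[3, 5, 2, 4, 0, 7, 1, 8, 3], [3, 2, 5, 1, 3, 8, 4, 7, 0], [5, 6, 6, 6, 7, 1, 6, 1, 7], [8, 0, 4, 0,
    1, 0, 4, 0, 4], [8, 4, 0, 4, 4, 0, 0, 0, 1], [0, 0, 2, 0, 6, 0, 1, 0, 0], [0, 2, 0, 1, 0, 0, 0,
    0, 6], [2, 0, 0, 0, 3, 0, 0, 0, 1], [2, 0, 0, 0, 1, 0, 0, 0, 3], [3, 0, 0, 0, 6, 0, 0, 0, 6],
    [6, 0, 0, 0, 3, 0, 0, 0, 6], [6, 0, 0, 0, 6, 0, 0, 0, 3]]

/-- The triangle of `v`. -/
def tri (v : ℕ) : List ℕ := triL.getD v []

/-- The field automorphism. -/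
def ttN (v : ℕ) : ℕ := ttL.getD v 0

/-- The root element. -/
def gnN (r v : ℕ) : ℕ := (gnL.getD r []).getD v 0

/-- The permutation of the `r`-th unitary matrix. -/
def sigN (r v : ℕ) : ℕ := if cjL.getD r false then gnN r (ttN v) else gnN r v

/-- The `r`-th matrix. -/
def amN (r : ℕ) : List ℕ := amL.getD r []

/-- Coordinate of a point code. -/
def co (p i : ℕ) : ℕ := if i = 0 then p / 81 else if i = 1 then p / 9 % 9 else p % 9

/-- Matrix times point. -/
def mvN (A : List ℕ) (p i : ℕ) : ℕ :=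
  eadd (eadd (emul (A.getD (3 * i) 0) (co p 0)) (emul (A.getD (3 * i + 1) 0) (co p 1)))
    (emul (A.getD (3 * i + 2) 0) (co p 2))

/-- Entry of the `r`-th root matrix. -/
def gnM (r a b : ℕ) : ℕ := G2Six.yk 0 r a b + G2Six.yk 1 r a b + G2Six.yk 2 r a b

theorem tt_lt : ((List.range 64).all fun v => decide (ttN v < 64) && decide (ttN (ttN v) = v)) = true := by
  decide +kernel

theorem gn_lt : ((List.range 12).all fun r => (List.range 64).all fun v => decide (gnN r v < 64)) = true := by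
  decide +kernel

theorem gn_act : ((List.range 12).all fun r => (List.range 64).all fun v => (List.range 6).all fun a =>
    Nat.beq ((gnM r a 0 * (v / 1 % 2) + gnM r a 1 * (v / 2 % 2) + gnM r a 2 * (v / 4 % 2) +
      gnM r a 3 * (v / 8 % 2) + gnM r a 4 * (v / 16 % 2) + gnM r a 5 * (v / 32 % 2) + gnN r v / 2 ^ a % 2) % 2) 0) =
    true := by decide +kernel

theorem am_ck : ((List.range 12).all fun r => Nat.beq (det3 (amN r)) 3 &&
    decide (mul3 (trans3 (amN r)) (conj3 (amN r)) = one3)) = true := by decide +kernel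

theorem rel_ck : ((List.range 12).all fun r => (List.range' 1 63).all fun v => (tri v).all fun u =>
    (tri (sigN r v)).any fun w => (List.range' 1 8).any fun c =>
      (List.range 3).all fun i => Nat.beq (mvN (amN r) u i) (emul c (co w i))) = true := by decide +kernel

theorem conj_ck : ((List.range' 1 63).all fun v => decide (ttN v ≠ 0) && (tri v).all fun u =>
    (tri (ttN v)).any fun w => (List.range 3).all fun i => Nat.beq (econj (co u i)) (co w i)) = true := by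
  decide +kernel

theorem tri_ck : ((List.range' 1 63).all fun v => !(tri v).isEmpty && (tri v).all fun u => decide (u ∈ allP)) =
    true := by decide +kernel

theorem sep_ck : (allP.all fun u => allP.all fun w => Nat.beq u w || (List.range 3).any fun i =>
    (List.range 3).any fun j => !(Nat.beq (emul (co u i) (co w j)) (emul (co u j) (co w i)))) = true := by
  decide +kernel

theorem co_lt : (allP.all fun u => (List.range 3).all fun i => decide (co u i < 9)) = true := by decide +kernel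

theorem tri_sep : ((List.range' 1 63).all fun v => (List.range' 1 63).all fun v' => Nat.beq v v' ||
    (tri v).any fun u => !(decide (u ∈ tri v'))) = true := by decide +kernel

theorem frame_ck : ([243, 27, 3, 270, 30].all fun p => (List.range' 1 63).any fun v =>
    (List.range' 1 63).any fun v' => decide (p ∈ tri v) && decide (p ∈ tri v') &&
      (tri v).all fun u => Nat.beq u p || !(decide (u ∈ tri v'))) = true := by decide +kernel

end Cfsg.Agent.G2Two
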