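import Cfsg.Agent.Lib.G2Two.Data
import Cfsg.Agent.Lib.G2Six.Model
import Cfsg.Agent.Lib.Recog.PSUThreeThreeSpectrum

/-!
`G₂(2)′` is `PSU₃(3)`: the group `G₂(2)` acts on the nonzero vectors of its six-dimensional module as
`ΓU₃(3)` does on polar triangles.
-/

set_option autoImplicit false

namespace Cfsg.Agent.G2Two

open U3L27 (em toMat3 eadd emul econj)
open G2Six (W cd)
open Cfsg.Lie
open scoped MatrixGroups Matrix commutatorElement

theorem nbeq {a b : ℕ} : Nat.beq a b = true ↔ a = b :=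
  ⟨Nat.eq_of_beq_eq_true, fun h => h ▸ Nat.beq_refl a⟩

variable {F : Type*} [Field F] [Fintype F]

/-! ### The six-dimensional side -/

/-- The vector with given binary digits. -/
def vec (n : Fin 64) : W → F := fun a => ((n.val / 2 ^ cd a % 2 : ℕ) : F)

variable (hF : Fintype.card F = 2)
include hF

theorem charTwo : CharP F 2 := by
  haveI : Fact (Nat.Prime 2) := ⟨Nat.prime_two⟩
  exact charP_of_card_eq_prime_pow (f := 1) (by rw [hF, pow_one])

theorem vec_bij : Function.Bijective (vec (F := F)) := by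
  classical
  haveI := charTwo hF
  rw [Fintype.bijective_iff_injective_and_card]
  refine ⟨fun n m h => ?_, by simp [hF]⟩
  have key : ∀ n m : Fin 64, (∀ a : W, n.val / 2 ^ cd a % 2 = m.val / 2 ^ cd a % 2) → n = m := by decide +kernel
  refine key n m fun a => ?_
  have ha : ((n.val / 2 ^ cd a % 2 : ℕ) : F) = ((m.val / 2 ^ cd a % 2 : ℕ) : F) := congrFun h a
  rcases Nat.mod_two_eq_zero_or_one (n.val / 2 ^ cd a) with e | e <;>
    rcases Nat.mod_two_eq_zero_or_one (m.val / 2 ^ cd a) with e' | e' <;> rw [e, e'] at ha ⊢ <;>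
    simp at ha

/-- The action on vectors. -/
noncomputable def tau : GL W F →* Equiv.Perm (Fin 64) :=
  let e := Equiv.ofBijective _ (vec_bij hF)
  MonoidHom.toHomPerm
    { toFun := fun g n => e.symm ((g : Matrix W W F) *ᵥ e n)
      map_one' := by
        funext n
        show e.symm ((1 : Matrix W W F) *ᵥ e n) = n
        rw [Matrix.one_mulVec, Equiv.symm_apply_apply]
      map_mul' := fun g h => by
        funext n
        show e.symm (((g : Matrix W W F) * (h : Matrix W W F)) *ᵥ e n) =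
          e.symm ((g : Matrix W W F) *ᵥ e (e.symm ((h : Matrix W W F) *ᵥ e n)))
        rw [Equiv.apply_symm_apply, Matrix.mulVec_mulVec] }

theorem tau_vec (g : GL W F) (n : Fin 64) : vec (tau hF g n) = (g : Matrix W W F) *ᵥ vec n :=
  (Equiv.ofBijective _ (vec_bij hF)).apply_symm_apply _

theorem tau_inj : Function.Injective (tau hF) := by
  intro g h e
  refine Units.ext (Matrix.toLin'.injective (LinearMap.ext fun v => ?_))
  obtain ⟨n, rfl⟩ := (vec_bij hF).2 v
  rw [Matrix.toLin'_apply, Matrix.toLin'_apply, ← tau_vec hF, ← tau_vec hF, e]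

theorem tau_yu [CharP F 2] {r : ℕ} (hr : r < 12) (n : Fin 64) :
    (tau hF (G2Six.yu hr (1 : F)) n).val = gnN r n := by
  have hlt : gnN r n < 64 := by
    have h := List.all_eq_true.1 (List.all_eq_true.1 gn_lt r (List.mem_range.2 hr)) n (List.mem_range.2 n.isLt)
    simpa using h
  suffices h : tau hF (G2Six.yu hr (1 : F)) n = ⟨gnN r n, hlt⟩ by rw [h]
  refine (vec_bij hF).1 ?_
  rw [tau_vec]
  funext a
  have h := List.all_eq_true.1 (List.all_eq_true.1 (List.all_eq_true.1 gn_act r (List.mem_range.2 hr)) n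
    (List.mem_range.2 n.isLt)) (cd a) (List.mem_range.2 (G2Six.cd_lt a))
  show (G2Six.Y r (1 : F) *ᵥ vec n) a = ((gnN r n / 2 ^ cd a % 2 : ℕ) : F)
  rw [← G2Six.eq_of_even h]
  simp only [gnM, Nat.cast_add, Nat.cast_mul, Matrix.mulVec, dotProduct, G2Six.Y, Finset.sum_range_succ,
    Finset.range_zero, Finset.sum_empty, zero_add, one_pow, one_smul, Matrix.add_apply, G2Six.cM6_apply, vec,
    Fintype.sum_sum_type, Fin.sum_univ_three, cd, Sum.elim_inl, Sum.elim_inr, Fin.val_zero, Fin.val_one, Fin.val_two,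
    Nat.reduceAdd, Nat.reducePow, pow_zero, pow_one]
  ring

omit [Fintype F] hF in
/-- The six-dimensional representation, with the images of the root elements. -/
theorem exists_rep_gen [CharP F 2] : ∃ π : ↥(chevG2.group F) →* GL W F, Function.Injective π ∧
    ∀ (g : ↥(chevG2.group F)) (r : ℕ) (hr : r < 12) (t : F), (g : GL chevG2.Idx F) = Chev.G2.ok.xG r t →
      π g = G2Six.yu hr t := by
  let ψ : ↥(G2Six.pairG F) →* GL chevG2.Idx F := (MonoidHom.snd _ _).comp (G2Six.pairG F).subtype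
  have hinj : Function.Injective ψ := (injective_iff_map_eq_one ψ).2 fun p hp =>
    Subtype.ext (Prod.ext ((G2Six.pairG_injective p.2).2 hp) hp)
  have hrange : chevG2.group F ≤ ψ.range := by
    rw [ChevalleyDatum.group, Subgroup.closure_le]
    rintro g ⟨r, t, hg⟩
    refine ⟨⟨_, Subgroup.subset_closure ⟨r.val, r.isLt, t, rfl⟩⟩, ?_⟩
    show Chev.G2.ok.xG r.val t = g
    apply Units.ext
    rw [Chev.G2.ok.coe_xG, hg, ChevalleyDatum.x, dif_pos r.isLt]
  choose p hp using fun g : ↥(chevG2.group F) => hrange g.2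
  refine ⟨MonoidHom.mk' (fun g => (p g).1.1) (fun a b => ?_), fun a b hab => ?_, fun g r hr t hg => ?_⟩
  · have : p (a * b) = p a * p b := hinj (by rw [map_mul, hp, hp, hp]; rfl)
    rw [this]; rfl
  · have h1 : ((p a)⁻¹ * p b).1.1 = 1 := by
      show (p a).1.1⁻¹ * (p b).1.1 = 1
      rw [show (p a).1.1 = (p b).1.1 from hab, inv_mul_cancel]
    have h2 : ψ ((p a)⁻¹ * p b) = 1 := (G2Six.pairG_injective ((p a)⁻¹ * p b).2).1 h1
    rw [map_mul, map_inv, hp, hp, inv_mul_eq_one] at h2
    exact Subtype.ext h2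
  · have : p g = ⟨(G2Six.yu hr t, Chev.G2.ok.xG r t), Subgroup.subset_closure ⟨r, hr, t, rfl⟩⟩ :=
      hinj (by rw [hp]; exact hg)
    show (p g).1.1 = _
    rw [this]

omit hF

/-! ### The unitary side -/

variable {K : Type*} [Field K] [CharP K 3] {ι : K}

/-- The point with given code. -/
def uv (ι : K) (p : ℕ) : Fin 3 → K := fun i => em ι (co p i)

/-- A matrix and a permutation correspond. -/
def Rel (ι : K) (M : Matrix (Fin 3) (Fin 3) K) (s : Equiv.Perm (Fin 64)) : Prop :=
  ∀ v : Fin 64, v.val ≠ 0 → (s v).val ≠ 0 ∧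
    ∀ u ∈ tri v, ∃ w ∈ tri (s v), ∃ c : K, c ≠ 0 ∧ M *ᵥ uv ι u = c • uv ι w

omit [CharP K 3] in
theorem rel_mul {M M' : Matrix (Fin 3) (Fin 3) K} {s s' : Equiv.Perm (Fin 64)} (h : Rel ι M s) (h' : Rel ι M' s') :
    Rel ι (M * M') (s * s') := by
  intro v hv
  obtain ⟨hv', h1⟩ := h' v hv
  obtain ⟨hv'', h2⟩ := h _ hv'
  refine ⟨hv'', fun u hu => ?_⟩
  obtain ⟨w, hw, c, hc, e⟩ := h1 u hu
  obtain ⟨x, hx, d, hd, e'⟩ := h2 w hw
  exact ⟨x, hx, c * d, mul_ne_zero hc hd, by rw [← Matrix.mulVec_mulVec, e, Matrix.mulVec_smul, e', smul_smul]⟩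

omit [CharP K 3] in
theorem mem_range_nz {v : Fin 64} (hv : v.val ≠ 0) : v.val ∈ List.range' 1 63 :=
  List.mem_range'_1.2 ⟨by omega, by omega⟩

omit [CharP K 3] in
theorem tri_allP {v : Fin 64} (hv : v.val ≠ 0) {u : ℕ} (hu : u ∈ tri v) : u ∈ allP := by
  have h := List.all_eq_true.1 tri_ck v.val (mem_range_nz hv)
  rw [Bool.and_eq_true] at h
  simpa using List.all_eq_true.1 h.2 u hu

/-- Proportional points are equal. -/
theorem uv_sep (hι : ι * ι = -1) {u w : ℕ} (hu : u ∈ allP) (hw : w ∈ allP) {c : K} (h : uv ι u = c • uv ι w) :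
    u = w := by
  have hk := List.all_eq_true.1 (List.all_eq_true.1 sep_ck u hu) w hw
  simp only [Bool.or_eq_true, nbeq, List.any_eq_true, List.mem_range, Bool.not_eq_true'] at hk
  rcases hk with hk | ⟨i, hi, j, hj, hk⟩
  · exact hk
  · exfalso
    have hi' := congrFun h ⟨i, hi⟩
    have hj' := congrFun h ⟨j, hj⟩
    simp only [uv, Pi.smul_apply, smul_eq_mul] at hi' hj'
    have e : em ι (emul (co u i) (co w j)) = em ι (emul (co u j) (co w i)) := by
      rw [U3L27.em_mul hι, U3L27.em_mul hι, hi', hj']; ring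
    have hlt : ∀ a b, emul a b < 9 := fun a b => by unfold emul; omega
    rw [U3L27.em_injOn hι (hlt _ _) (hlt _ _) e, Nat.beq_refl] at hk
    exact Bool.noConfusion hk

theorem rel_one (hι : ι * ι = -1) {s : Equiv.Perm (Fin 64)} (h : Rel ι 1 s) : s = 1 := by
  have key : ∀ v : Fin 64, v.val ≠ 0 → s v = v := by
    intro v hv
    obtain ⟨hv', h1⟩ := h v hv
    by_contra hne
    have hk := List.all_eq_true.1 (List.all_eq_true.1 tri_sep v.val (mem_range_nz hv)) _ (mem_range_nz hv')
    simp only [Bool.or_eq_true, nbeq, List.any_eq_true, Bool.not_eq_true', decide_eq_false_iff_not] at hk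
    rcases hk with hk | ⟨u, hu, hu'⟩
    · exact hne (Fin.ext hk).symm
    · obtain ⟨w, hw, c, -, e⟩ := h1 u hu
      rw [Matrix.one_mulVec] at e
      exact hu' (uv_sep hι (tri_allP hv hu) (tri_allP hv' hw) e ▸ hw)
  refine Equiv.ext fun v => ?_
  by_cases hv : v.val = 0
  · by_contra hne
    rw [Equiv.Perm.one_apply] at hne
    have h0 : (s v).val ≠ 0 := fun h => hne (Fin.ext (h.trans hv.symm))
    exact hne (s.injective (key (s v) h0))
  · exact key v hv

/-- A matrix fixing every triangle is scalar. -/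
theorem rel_scalar (hι : ι * ι = -1) {M : Matrix (Fin 3) (Fin 3) K} (h : Rel ι M 1) :
    ∃ a : K, M = a • 1 := by
  have fix : ∀ p ∈ [243, 27, 3, 270, 30], ∃ c : K, M *ᵥ uv ι p = c • uv ι p := by
    intro p hp
    have hk := List.all_eq_true.1 frame_ck p hp
    simp only [List.any_eq_true, Bool.and_eq_true, List.all_eq_true, Bool.or_eq_true, nbeq,
      decide_eq_true_eq, Bool.not_eq_true', decide_eq_false_iff_not, List.mem_range'_1] at hk
    obtain ⟨v, hv, v', hv', ⟨hpv, hpv'⟩, honly⟩ := hk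
    obtain ⟨-, h1⟩ := h ⟨v, by omega⟩ (show v ≠ 0 by omega)
    obtain ⟨w, hw, c, hc, e⟩ := h1 p hpv
    obtain ⟨-, h2⟩ := h ⟨v', by omega⟩ (show v' ≠ 0 by omega)
    obtain ⟨w', hw', c', hc', e'⟩ := h2 p hpv'
    rw [Equiv.Perm.one_apply] at hw hw'
    have hww : w = w' := uv_sep hι (tri_allP (v := ⟨v, by omega⟩) (show v ≠ 0 by omega) hw)
      (tri_allP (v := ⟨v', by omega⟩) (show v' ≠ 0 by omega) hw') (c := c⁻¹ * c') (by
        rw [← smul_smul, ← e', e, smul_smul, inv_mul_cancel₀ hc, one_smul])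
    rcases honly w hw with hp' | hp'
    · subst hp'; exact ⟨c, e⟩
    · exact absurd (hww ▸ hw') hp'
  have e3 : em ι 3 = (1 : K) := U3L27.em_three ι
  have e0 : em ι 0 = (0 : K) := U3L27.em_zero ι
  obtain ⟨a, ha⟩ := fix 243 (by simp)
  obtain ⟨b, hb⟩ := fix 27 (by simp)
  obtain ⟨c, hc⟩ := fix 3 (by simp)
  obtain ⟨d, hd⟩ := fix 270 (by simp)
  obtain ⟨g, hg⟩ := fix 30 (by simp)
  have A := fun i => congrFun ha i
  have B := fun i => congrFun hb i
  have C := fun i => congrFun hc i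
  have D := fun i => congrFun hd i
  have G := fun i => congrFun hg i
  simp [Matrix.mulVec, dotProduct, Fin.sum_univ_three, uv, co, e0, e3, Fin.forall_fin_succ] at A B C D G
  obtain ⟨A0, A1, A2⟩ := A
  obtain ⟨B0, B1, B2⟩ := B
  obtain ⟨C0, C1, C2⟩ := C
  obtain ⟨D0, D1, -⟩ := D
  obtain ⟨-, G1, G2⟩ := G
  refine ⟨a, ?_⟩
  ext i j
  fin_cases i <;> fin_cases j <;> simp_all

variable [Fintype K] (hK : Fintype.card K = 9)
include hK

/-- A scalar element of the special linear group of a field of characteristic three is trivial. -/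
theorem scalar_one {M : SL(3, K)} {a : K} (h : (M : Matrix (Fin 3) (Fin 3) K) = a • 1) : M = 1 := by
  have hdet := M.2
  rw [h] at hdet
  simp at hdet
  haveI : Fact (Nat.Prime 3) := ⟨Nat.prime_three⟩
  have : (a - 1) ^ 3 = 0 := by rw [sub_pow_char, hdet, one_pow, sub_self]
  refine Subtype.ext ?_
  rw [h, sub_eq_zero.1 (pow_eq_zero_iff three_ne_zero |>.1 this), one_smul]
  rfl

/-- The correspondence. -/
def pairs (ι : K) : Submonoid (↥(Cfsg.SU 3 K 3) × Equiv.Perm (Fin 64)) where
  carrier := {p | Rel ι ((p.1 : SL(3, K)) : Matrix (Fin 3) (Fin 3) K) p.2}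
  one_mem' := fun v hv => ⟨hv, fun u hu => ⟨u, hu, 1, one_ne_zero, by simp⟩⟩
  mul_mem' := fun h h' => by simpa using rel_mul h h'

theorem center_SU (hι : ι * ι = -1) : Subgroup.center ↥(Cfsg.SU 3 K 3) = ⊥ := by
  rw [eq_bot_iff]
  intro A hA
  obtain ⟨P, hP⟩ := U3L27.exists_su hι [0, 3, 0, 0, 0, 3, 3, 0, 0] (by decide) (by decide)
  obtain ⟨D, hD⟩ := U3L27.exists_su hι [3, 0, 0, 0, 1, 0, 0, 0, 2] (by decide) (by decide)
  have e1 : em ι 1 = ι := by simp [U3L27.em]
  have e2 : em ι 2 = 2 * ι := by simp [U3L27.em]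
  have e3 : em ι 3 = (1 : K) := U3L27.em_three ι
  have e0 : em ι 0 = (0 : K) := U3L27.em_zero ι
  have cp : ((A : SL(3, K)) : Matrix (Fin 3) (Fin 3) K) * ((P : SL(3, K)) : Matrix (Fin 3) (Fin 3) K) =
      ((P : SL(3, K)) : Matrix (Fin 3) (Fin 3) K) * ((A : SL(3, K)) : Matrix (Fin 3) (Fin 3) K) :=
    congrArg (fun x : ↥(Cfsg.SU 3 K 3) => ((x : SL(3, K)) : Matrix (Fin 3) (Fin 3) K))
      (Subgroup.mem_center_iff.1 hA P).symm
  have cd' : ((A : SL(3, K)) : Matrix (Fin 3) (Fin 3) K) * ((D : SL(3, K)) : Matrix (Fin 3) (Fin 3) K) =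
      ((D : SL(3, K)) : Matrix (Fin 3) (Fin 3) K) * ((A : SL(3, K)) : Matrix (Fin 3) (Fin 3) K) :=
    congrArg (fun x : ↥(Cfsg.SU 3 K 3) => ((x : SL(3, K)) : Matrix (Fin 3) (Fin 3) K))
      (Subgroup.mem_center_iff.1 hA D).symm
  rw [hP] at cp
  rw [hD] at cd'
  have h2 : (2 : K) ≠ 0 := fun h => by
    have : ((2 : ℕ) : K) = 0 := by exact_mod_cast h
    rw [CharP.cast_eq_zero_iff K 3] at this
    omega
  have hne : ι ≠ 1 ∧ (2 : K) * ι ≠ 1 ∧ 2 * ι ≠ ι := by
    refine ⟨fun h => ?_, fun h => ?_, fun h => ?_⟩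
    · have := U3L27.em_injOn hι (show 1 < 9 by norm_num) (show 3 < 9 by norm_num) (by rw [e1, e3, h]); omega
    · have := U3L27.em_injOn hι (show 2 < 9 by norm_num) (show 3 < 9 by norm_num) (by rw [e2, e3, h]); omega
    · have := U3L27.em_injOn hι (show 2 < 9 by norm_num) (show 1 < 9 by norm_num) (by rw [e1, e2, h]); omega
  have hA' : ∃ a : K, ((A : SL(3, K)) : Matrix (Fin 3) (Fin 3) K) = a • 1 := by
    set M := ((A : SL(3, K)) : Matrix (Fin 3) (Fin 3) K)
    have p := fun i j => congrFun (congrFun cp i) j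
    have d := fun i j => congrFun (congrFun cd' i) j
    have p00 := p 0 1; have p11 := p 1 2
    have d01 := d 0 1; have d02 := d 0 2; have d10 := d 1 0; have d12 := d 1 2; have d20 := d 2 0; have d21 := d 2 1
    simp [toMat3, Matrix.mul_apply, Fin.sum_univ_three, e0, e1, e2, e3] at p00 p11 d01 d02 d10 d12 d20 d21
    obtain ⟨n1, n2, n3⟩ := hne
    have z01 : M 0 1 = 0 := by
      have : M 0 1 * (ι - 1) = 0 := by linear_combination d01
      exact (mul_eq_zero.1 this).resolve_right (sub_ne_zero.2 n1)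
    have z02 : M 0 2 = 0 := by
      have : M 0 2 * (2 * ι - 1) = 0 := by linear_combination d02
      exact (mul_eq_zero.1 this).resolve_right (sub_ne_zero.2 n2)
    have z10 : M 1 0 = 0 := by
      have : M 1 0 * (ι - 1) = 0 := by linear_combination -d10
      exact (mul_eq_zero.1 this).resolve_right (sub_ne_zero.2 n1)
    have z12 : M 1 2 = 0 := by
      have : M 1 2 * (2 * ι - ι) = 0 := by linear_combination d12
      exact (mul_eq_zero.1 this).resolve_right (sub_ne_zero.2 n3)
    have z20 : M 2 0 = 0 := by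
      have : M 2 0 * (2 * ι - 1) = 0 := by linear_combination -d20
      exact (mul_eq_zero.1 this).resolve_right (sub_ne_zero.2 n2)
    have z21 : M 2 1 = 0 := by
      have : M 2 1 * (2 * ι - ι) = 0 := by linear_combination -d21
      exact (mul_eq_zero.1 this).resolve_right (sub_ne_zero.2 n3)
    refine ⟨M 0 0, ?_⟩
    ext i j
    fin_cases i <;> fin_cases j <;> simp_all
  obtain ⟨a, ha⟩ := hA'
  rw [Subgroup.mem_bot]
  exact Subtype.ext (scalar_one hK ha)

omit hK in
theorem rel_mk (hι : ι * ι = -1) {r : ℕ} (hr : r < 12) {s : Equiv.Perm (Fin 64)} (hs : ∀ v, (s v).val = sigN r v) :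
    Rel ι (toMat3 ι (amN r)) s := by
  intro v hv
  have h1 := List.all_eq_true.1 (List.all_eq_true.1 rel_ck r (List.mem_range.2 hr)) v.val (mem_range_nz hv)
  simp only [List.all_eq_true, List.any_eq_true, List.mem_range'_1, List.mem_range, nbeq] at h1
  rw [hs]
  refine ⟨fun h0 => ?_, fun u hu => ?_⟩
  · have h2 := List.all_eq_true.1 tri_ck v.val (mem_range_nz hv)
    simp only [Bool.and_eq_true, Bool.not_eq_true', List.isEmpty_eq_false_iff_exists_mem] at h2
    obtain ⟨u, hu⟩ := h2.1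
    obtain ⟨w, hw, -⟩ := h1 u hu
    rw [h0] at hw
    simp [tri, triL] at hw
  · obtain ⟨w, hw, c, ⟨hc1, hc2⟩, e⟩ := h1 u hu
    refine ⟨w, hw, em ι c, fun h => ?_, ?_⟩
    · have := U3L27.em_injOn hι (show c < 9 by omega) (show 0 < 9 by norm_num) (by rw [h, U3L27.em_zero]); omega
    · funext i
      have := e i i.isLt
      fin_cases i <;>
        simp [toMat3, Matrix.mulVec, dotProduct, Fin.sum_univ_three, uv, ← U3L27.em_mul hι, ← U3L27.em_add] <;>
        simp [mvN] at this <;> rw [this]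

/-- Conjugation by the field automorphism. -/
theorem rel_frob (hι : ι * ι = -1) (f : K →+* K) (hf : ∀ x, f x = x ^ 3) {t : Equiv.Perm (Fin 64)}
    (ht : ∀ v, (t v).val = ttN v) {M : Matrix (Fin 3) (Fin 3) K} {s : Equiv.Perm (Fin 64)} (h : Rel ι M s) :
    Rel ι (M.map f) (t * s * t) := by
  have hc : ∀ v : Fin 64, v.val ≠ 0 → (t v).val ≠ 0 ∧
      ∀ u ∈ tri v, ∃ w ∈ tri (t v), (fun i => f (uv ι u i)) = uv ι w := by
    intro v hv
    have h1 := List.all_eq_true.1 conj_ck v.val (mem_range_nz hv)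
    simp only [Bool.and_eq_true, decide_eq_true_eq, List.all_eq_true, List.any_eq_true, List.mem_range,
      nbeq] at h1
    refine ⟨by rw [ht]; exact h1.1, fun u hu => ?_⟩
    obtain ⟨w, hw, e⟩ := h1.2 u hu
    refine ⟨w, by rw [ht]; exact hw, funext fun i => ?_⟩
    show f (em ι (co u i)) = em ι (co w i)
    rw [hf, U3L27.em_conj hι, e i i.isLt]
  intro v hv
  obtain ⟨hv1, k1⟩ := hc v hv
  obtain ⟨hv2, k2⟩ := h _ hv1
  obtain ⟨hv3, k3⟩ := hc _ hv2
  refine ⟨hv3, fun u hu => ?_⟩
  obtain ⟨u', hu', e1⟩ := k1 u hu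
  obtain ⟨w, hw, c, hc0, e2⟩ := k2 u' hu'
  obtain ⟨w', hw', e3⟩ := k3 w hw
  have hff : ∀ x : K, f (f x) = x := fun x => by
    rw [hf, hf, ← pow_mul, show 3 * 3 = Fintype.card K from hK.symm, FiniteField.pow_card]
  refine ⟨w', hw', f c, (map_ne_zero f).2 hc0, ?_⟩
  have e4 : uv ι u = fun i => f (uv ι u' i) := funext fun i => by
    rw [← hff (uv ι u i)]; exact congrArg f (congrFun e1 i)
  funext i
  rw [e4]
  show (M.map f *ᵥ (f ∘ uv ι u')) i = _
  rw [← RingHom.map_mulVec, e2, Pi.smul_apply, smul_eq_mul, map_mul, Pi.smul_apply, smul_eq_mul, ← congrFun e3 i]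

/-- The permutations coming from the special unitary group. -/
def permSU (ι : K) : Subgroup (Equiv.Perm (Fin 64)) where
  __ := (pairs ι).map (MonoidHom.snd _ _)
  inv_mem' := by
    rintro s ⟨⟨A, s'⟩, h, rfl⟩
    have hn : (pairs ι) ≤ (Subgroup.closure (pairs ι : Set (↥(Cfsg.SU 3 K 3) × Equiv.Perm (Fin 64)))).toSubmonoid :=
      fun x hx => Subgroup.subset_closure hx
    refine ⟨(A, s') ^ (orderOf (A, s') - 1), pow_mem h _, ?_⟩
    show ((A, s') ^ (orderOf (A, s') - 1)).2 = s'⁻¹
    rw [show (A, s') ^ (orderOf (A, s') - 1) = (A, s')⁻¹ from eq_inv_of_mul_eq_one_left (by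
      rw [← pow_succ, Nat.sub_add_cancel (orderOf_pos _), pow_orderOf_eq_one])]
    rfl

omit [CharP K 3] hK in
theorem mem_permSU {s : Equiv.Perm (Fin 64)} :
    s ∈ permSU ι ↔ ∃ A : ↥(Cfsg.SU 3 K 3), Rel ι ((A : SL(3, K)) : Matrix (Fin 3) (Fin 3) K) s :=
  ⟨fun ⟨p, hp, e⟩ => ⟨p.1, e ▸ hp⟩, fun ⟨A, hA⟩ => ⟨(A, s), hA, rfl⟩⟩

include hF

/-- The derived group of `G₂(2)` is `PSU₃(3)`. -/
theorem equiv_psu (hι : ι * ι = -1) (hcard : Nat.card ↥(chevG2.group F) = 12096)
    (hU : Nat.card (Cfsg.PSU 3 K 3) = 6048) [IsSimpleGroup (Cfsg.PSU 3 K 3)]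
    (hna : ¬ IsMulCommutative (Cfsg.PSU 3 K 3)) :
    Nonempty (↥(commutator ↥(chevG2.group F)) ≃* Cfsg.PSU 3 K 3) := by
  haveI := charTwo hF
  haveI : Finite ↥(chevG2.group F) := Nat.finite_of_card_ne_zero (by rw [hcard]; norm_num)
  obtain ⟨π, hπ, hgen⟩ := exists_rep_gen (F := F)
  obtain ⟨f, hf⟩ := Recog.PSUThreeThreeSpectrum.exists_frob hK
  set φ := (tau hF).comp π
  have hφ : Function.Injective φ := (tau_inj hF).comp hπ
  set H := permSU ι
  let tf : Fin 64 → Fin 64 := fun v => ⟨ttN v, by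
    have := List.all_eq_true.1 tt_lt v.val (List.mem_range.2 v.isLt)
    simp only [Bool.and_eq_true, decide_eq_true_eq] at this
    exact this.1⟩
  have htf : ∀ v, tf (tf v) = v := fun v => Fin.ext (by
    have := List.all_eq_true.1 tt_lt v.val (List.mem_range.2 v.isLt)
    simp only [Bool.and_eq_true, decide_eq_true_eq] at this
    exact this.2)
  let t : Equiv.Perm (Fin 64) := ⟨tf, tf, htf, htf⟩
  have ht : ∀ v, (t v).val = ttN v := fun v => rfl
  have htt : t * t = 1 := Equiv.ext htf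
  have hti : t⁻¹ = t := inv_eq_of_mul_eq_one_right htt
  have hconj : ∀ s ∈ H, t * s * t ∈ H := by
    intro s hs
    obtain ⟨A, hA⟩ := mem_permSU.1 hs
    have hu := (Recog.PSUThreeThreeSpectrum.mem_SU_iff f hf A.1).1 A.2
    refine mem_permSU.2 ⟨⟨Matrix.SpecialLinearGroup.map f A.1, ?_⟩, rel_frob hK hι f hf ht hA⟩
    rw [Recog.PSUThreeThreeSpectrum.mem_SU_iff f hf]
    have := congrArg (fun X : Matrix (Fin 3) (Fin 3) K => X.map f) hu
    simpa [Matrix.map_mul, Matrix.transpose_map] using this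
  let N : Subgroup (Equiv.Perm (Fin 64)) :=
    { carrier := {s | s ∈ H ∨ s * t ∈ H}
      one_mem' := Or.inl (one_mem _)
      mul_mem' := by
        rintro a b (ha | ha) (hb | hb)
        · exact Or.inl (mul_mem ha hb)
        · exact Or.inr (by rw [mul_assoc]; exact mul_mem ha hb)
        · refine Or.inr ?_
          have := mul_mem ha (hconj b hb)
          rwa [show a * t * (t * b * t) = a * (t * t) * b * t by group, htt, mul_one] at this
        · refine Or.inl ?_
          have := mul_mem ha (hconj _ hb)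
          rwa [show a * t * (t * (b * t) * t) = a * (t * t) * b * (t * t) by group, htt, mul_one, mul_one] at this
      inv_mem' := by
        rintro a (ha | ha)
        · exact Or.inl (inv_mem ha)
        · refine Or.inr ?_
          have := hconj _ (inv_mem ha)
          rwa [mul_inv_rev, hti, show t * (t * a⁻¹) * t = t * t * (a⁻¹ * t) by group, htt, one_mul] at this }
  have hmem : ∀ g : ↥(chevG2.group F), φ g ∈ N := by
    intro g
    have hle : chevG2.group F ≤ (N.comap φ).map (chevG2.group F).subtype := by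
      show Subgroup.closure _ ≤ _
      rw [Subgroup.closure_le]
      rintro x ⟨r, c, hx⟩
      have hxG : x = Chev.G2.ok.xG r.val c := Units.ext (by
        rw [Chev.G2.ok.coe_xG, hx, ChevalleyDatum.x, dif_pos r.isLt])
      set g0 : ↥(chevG2.group F) := ⟨x, Subgroup.subset_closure ⟨r, c, hx⟩⟩ with hg0
      refine ⟨g0, ?_, rfl⟩
      show tau hF (π g0) ∈ N
      rw [hgen g0 r.val r.isLt c hxG]
      have hc : c = 0 ∨ c = 1 := by
        classical
        by_contra h
        push Not at h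
        have h3 : ({c, 0, 1} : Finset F).card ≤ 2 := hF ▸ Finset.card_le_univ _
        rw [Finset.card_insert_of_notMem (by simp [h.1, h.2]), Finset.card_pair zero_ne_one] at h3
        omega
      rcases hc with rfl | rfl
      · have e : G2Six.yu r.isLt (0 : F) = 1 := Units.ext (by
          show G2Six.Y r.val (0 : F) = 1
          ext a b
          have key : ∀ (r : Fin 12) (a b : W), G2Six.yk 0 r (cd a) (cd b) = if a = b then 1 else 0 := by decide +kernel
          have := key ⟨r.val, r.isLt⟩ a b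
          simp only [G2Six.Y, Finset.sum_range_succ, Finset.range_zero, Finset.sum_empty, zero_add, pow_zero,
            one_smul, zero_pow (two_ne_zero), pow_one, zero_smul, add_zero, G2Six.cM6_apply, this, Matrix.one_apply]
          split_ifs <;> simp)
        rw [e, map_one]
        exact one_mem _
      · have hr : r.val < 12 := r.isLt
        obtain ⟨hdet, hu⟩ : U3L27.det3 (amN r) = 3 ∧
            U3L27.mul3 (U3L27.trans3 (amN r)) (U3L27.conj3 (amN r)) = U3L27.one3 := by
          have h := List.all_eq_true.1 am_ck r.val (List.mem_range.2 hr)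
          simpa using h
        obtain ⟨A, hA⟩ := U3L27.exists_su hι _ hdet hu
        cases hcj : cjL.getD r.val false with
        | false =>
          refine Or.inl (mem_permSU.2 ⟨A, ?_⟩)
          rw [hA]
          exact rel_mk hι hr fun v => (tau_yu hF hr v).trans (by rw [sigN, hcj, if_neg (by simp)])
        | true =>
          refine Or.inr (mem_permSU.2 ⟨A, ?_⟩)
          rw [hA]
          exact rel_mk hι hr fun v => (tau_yu hF hr (t v)).trans (by rw [sigN, hcj, if_pos rfl, ht])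
    obtain ⟨y, hy, e⟩ := hle g.2
    rw [← Subtype.ext e]
    exact hy
  set G0 := H.comap φ
  -- the correspondence is one to one
  choose A hA using fun g : ↥G0 => mem_permSU.1 g.2
  have huniq : ∀ {B B' : ↥(Cfsg.SU 3 K 3)} {s : Equiv.Perm (Fin 64)},
      Rel ι ((B : SL(3, K)) : Matrix (Fin 3) (Fin 3) K) s → Rel ι ((B' : SL(3, K)) : Matrix (Fin 3) (Fin 3) K) s →
      B = B' := by
    intro B B' s h h'
    have h1 : (B, s) ∈ pairs ι := h
    have h2 : (B', s) ∈ pairs ι := h'
    have h3 : (B', s)⁻¹ = (B', s) ^ (orderOf (B', s) - 1) := inv_eq_of_mul_eq_one_right (by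
      rw [← pow_succ', Nat.sub_add_cancel (orderOf_pos _), pow_orderOf_eq_one])
    have h4 : (B', s)⁻¹ * (B, s) ∈ pairs ι := mul_mem (h3 ▸ pow_mem h2 _) h1
    have h5 : Rel ι ((((B'⁻¹ * B : ↥(Cfsg.SU 3 K 3))) : SL(3, K)) : Matrix (Fin 3) (Fin 3) K) (s⁻¹ * s) := h4
    rw [inv_mul_cancel] at h5
    obtain ⟨a, ha⟩ := rel_scalar hι h5
    exact (inv_mul_eq_one.1 (Subtype.ext (scalar_one hK ha))).symm
  let ψ0 : ↥G0 →* ↥(Cfsg.SU 3 K 3) := MonoidHom.mk' A fun g h => huniq (hA _) (by
    simpa using rel_mul (hA g) (hA h))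
  let ψ : ↥G0 →* Cfsg.PSU 3 K 3 := (QuotientGroup.mk' _).comp ψ0
  have hψ : Function.Injective ψ := by
    rw [injective_iff_map_eq_one]
    intro g hg
    have h0 : ψ0 g ∈ Subgroup.center ↥(Cfsg.SU 3 K 3) := (QuotientGroup.eq_one_iff _).1 hg
    rw [center_SU hK hι, Subgroup.mem_bot] at h0
    have h1 := hA g
    rw [show A g = 1 from h0] at h1
    have h2 : φ g.1 = 1 := rel_one hι (by simpa using h1)
    exact Subtype.ext ((injective_iff_map_eq_one φ).1 hφ g.1 h2)
  have hidx : ∀ a b : ↥(chevG2.group F), a ∉ G0 → b ∉ G0 → a * b ∈ G0 := by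
    intro a b ha hb
    have ha' : φ a * t ∈ H := (hmem a).resolve_left ha
    have hb' : φ b * t ∈ H := (hmem b).resolve_left hb
    have := mul_mem ha' (hconj _ hb')
    rw [show φ a * t * (t * (φ b * t) * t) = φ a * (t * t) * φ b * (t * t) by group, htt, mul_one, mul_one,
      ← map_mul] at this
    exact this
  haveI : Finite (Cfsg.PSU 3 K 3) := Nat.finite_of_card_ne_zero (by rw [hU]; norm_num)
  have hle6 : Nat.card ↥G0 ≤ 6048 := hU ▸ Nat.card_le_card_of_injective ψ hψ
  have hidx2 : G0.index ≤ 2 := by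
    by_cases htop : G0 = ⊤
    · rw [htop, Subgroup.index_top]; norm_num
    · obtain ⟨a, ha⟩ : ∃ a, a ∉ G0 := by
        by_contra h; push Not at h; exact htop ((Subgroup.eq_top_iff' _).2 h)
      refine le_of_eq (Subgroup.index_eq_two_iff.2 ⟨a, fun b => ?_⟩)
      by_cases hb : b ∈ G0
      · exact Or.inr ⟨hb, fun h => ha ((mul_mem_cancel_left hb).1 h)⟩
      · exact Or.inl ⟨hidx b a hb ha, hb⟩
  have hcard0 : Nat.card ↥G0 = 6048 := by
    have := G0.index_mul_card
    rw [hcard] at this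
    have : 12096 ≤ 2 * Nat.card ↥G0 := this ▸ Nat.mul_le_mul_right _ hidx2
    omega
  have hbij : Function.Bijective ψ := (Nat.bijective_iff_injective_and_card ψ).2 ⟨hψ, hcard0.trans hU.symm⟩
  let e := MulEquiv.ofBijective ψ hbij
  have hcomm : commutator ↥(chevG2.group F) = G0 := by
    have hi2 : G0.index = 2 := by
      have := G0.index_mul_card
      rw [hcard, hcard0] at this
      omega
    haveI := Subgroup.normal_of_index_eq_two hi2
    refine le_antisymm ?_ ?_
    · rw [commutator_def, Subgroup.commutator_le]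
      intro a _ b _
      rw [← QuotientGroup.eq_one_iff (N := G0)]
      have hc : IsMulCommutative (↥(chevG2.group F) ⧸ G0) := by
        haveI : Fact (Nat.Prime 2) := ⟨Nat.prime_two⟩
        exact (isCyclic_of_prime_card (p := 2) (by rw [← Subgroup.index_eq_card]; exact hi2)).isMulCommutative
      rw [commutatorElement_def, QuotientGroup.mk_mul, QuotientGroup.mk_mul, QuotientGroup.mk_mul,
        QuotientGroup.mk_inv, QuotientGroup.mk_inv, hc.is_comm.comm (a : ↥(chevG2.group F) ⧸ G0) b]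
      group
    · haveI : IsSimpleGroup ↥G0 := e.isSimpleGroup
      have hperf : commutator ↥G0 = ⊤ := by
        refine ((commutator ↥G0).normal_of_characteristic).eq_bot_or_eq_top.resolve_left fun h => hna ⟨⟨fun a b => ?_⟩⟩
        obtain ⟨a, rfl⟩ := e.surjective a
        obtain ⟨b, rfl⟩ := e.surjective b
        have : ⁅a, b⁆ ∈ commutator ↥G0 :=
          Subgroup.commutator_mem_commutator (Subgroup.mem_top a) (Subgroup.mem_top b)
        rw [h, Subgroup.mem_bot, commutatorElement_eq_one_iff_mul_comm] at this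
        rw [← map_mul, this, map_mul]
      calc G0 = (⊤ : Subgroup ↥G0).map G0.subtype := by rw [← MonoidHom.range_eq_map, Subgroup.range_subtype]
        _ = (commutator ↥G0).map G0.subtype := by rw [hperf]
        _ ≤ _ := by
          rw [commutator_def, Subgroup.map_commutator, commutator_def]
          exact Subgroup.commutator_mono le_top le_top
  exact ⟨(MulEquiv.subgroupCongr hcomm).trans e⟩

end Cfsg.Agent.G2Two
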